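import Mathlib
import Cfsg.Agent.Lib.Tech.SylowIn

/-! Chains of subgroups. -/

set_option autoImplicit false

namespace CfsgLib.Small2

open Subgroup CfsgLib.Tech

variable {G : Type*} [Group G]

/-- There is a chain of `n` proper inclusions ending in `K`. -/
def Ch : ℕ → Subgroup G → Prop
  | 0, _ => True
  | n + 1, K => ∃ H, H < K ∧ Ch n H

theorem Ch.step {n : ℕ} {H K : Subgroup G} (h : Ch n H) (hl : H < K) : Ch (n + 1) K := ⟨H, hl, h⟩

theorem Ch.mono {n : ℕ} {H K : Subgroup G} (h : Ch n H) (hl : H ≤ K) : Ch n K := by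
  cases n with
  | zero => trivial
  | succ n => obtain ⟨L, h1, h2⟩ := h; exact ⟨L, h1.trans_le hl, h2⟩

theorem Ch.exists_chain {n : ℕ} {K : Subgroup G} (h : Ch n K) :
    ∃ c : Fin (n + 1) → Subgroup G, StrictAnti c ∧ c 0 = K := by
  induction n generalizing K with
  | zero => exact ⟨fun _ => K, fun a b h => absurd h (by omega), rfl⟩
  | succ n ih =>
    obtain ⟨H, h1, h2⟩ := h
    obtain ⟨c, c1, c2⟩ := ih h2
    refine ⟨Fin.cons K c, Fin.strictAnti_iff_succ_lt.2 fun i => ?_, rfl⟩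
    refine Fin.cases ?_ (fun j => ?_) i
    · simpa [c2] using h1
    · simpa using c1 (Fin.castSucc_lt_succ (i := j))

theorem Ch.map {G' : Type*} [Group G'] {f : G →* G'} (hf : Function.Injective f) {n : ℕ}
    {K : Subgroup G} (h : Ch n K) : Ch n (K.map f) := by
  induction n generalizing K with
  | zero => trivial
  | succ n ih =>
    obtain ⟨H, h1, h2⟩ := h
    exact ⟨_, lt_of_le_of_ne (map_mono h1.le) fun e => h1.ne (map_injective hf e), ih h2⟩

theorem Ch.equiv {G' : Type*} [Group G'] (e : G' ≃* G) {n : ℕ} (h : Ch n (⊤ : Subgroup G)) :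
    Ch n (⊤ : Subgroup G') := (h.map (f := e.symm.toMonoidHom) e.symm.injective).mono le_top

theorem mem_sup_norm {V H : Subgroup G} (hH : H ≤ normalizer (V : Set G)) {x : G} (hx : x ∈ V ⊔ H) :
    ∃ v ∈ V, ∃ t ∈ H, v * t = x := by
  rwa [← SetLike.mem_coe, coe_mul_of_right_le_normalizer_left _ _ hH, Set.mem_mul] at hx

theorem Ch.sup {a b : ℕ} {V H : Subgroup G} (hV : Ch a V) (hH : Ch b H)
    (hn : H ≤ normalizer (V : Set G)) (hd : V ⊓ H = ⊥) : Ch (a + b) (V ⊔ H) := by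
  induction b generalizing H with
  | zero => exact hV.mono le_sup_left
  | succ b ih =>
    obtain ⟨L, h1, h2⟩ := hH
    refine ⟨V ⊔ L, lt_of_le_of_ne (sup_le_sup_left h1.le _) fun e => h1.not_ge fun x hx => ?_,
      ih h2 (h1.le.trans hn) (eq_bot_iff.2 (hd ▸ inf_le_inf_left _ h1.le))⟩
    obtain ⟨v, hv, t, ht, rfl⟩ := mem_sup_norm (h1.le.trans hn) (e ▸ mem_sup_right hx : x ∈ V ⊔ L)
    have : v ∈ V ⊓ H := ⟨hv, (mul_mem_cancel_right (h1.le ht)).1 hx⟩
    rw [hd, mem_bot] at this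
    rwa [this, one_mul]

variable [Finite G]

theorem exists_le_card {p k : ℕ} [Fact p.Prime] {H : Subgroup G} (h : p ^ k ∣ Nat.card H) :
    ∃ T ≤ H, Nat.card T = p ^ k := by
  obtain ⟨T, hT⟩ := Sylow.exists_subgroup_card_pow_prime p h
  exact ⟨T.map H.subtype, map_subtype_le T, by rw [card_map_of_injective H.subtype_injective, hT]⟩

theorem ch_of_dvd (p : ℕ) [hp : Fact p.Prime] {k : ℕ} {H : Subgroup G} (h : p ^ k ∣ Nat.card H) :
    Ch k H := by
  induction k generalizing H with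
  | zero => trivial
  | succ k ih =>
    obtain ⟨T, h1, h2⟩ := exists_le_card ((pow_dvd_pow p k.le_succ).trans h)
    refine ⟨T, lt_of_le_of_ne h1 ?_, ih h2.symm.dvd⟩
    rintro rfl
    rw [h2, Nat.pow_dvd_pow_iff_le_right hp.out.one_lt] at h
    omega

theorem ch_of_dvd' (p : ℕ) [Fact p.Prime] {k : ℕ} {H : Subgroup G} (h : p ^ k ∣ Nat.card H)
    (h' : ∀ j, Nat.card H ≠ p ^ j) : Ch (k + 1) H := by
  obtain ⟨T, h1, h2⟩ := exists_le_card h
  exact ⟨T, lt_of_le_of_ne h1 fun e => h' k (e ▸ h2), ch_of_dvd p h2.symm.dvd⟩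

variable [IsSimpleGroup G] (hn : ¬ IsMulCommutative G)
include hn

theorem not_pgroup (p : ℕ) [Fact p.Prime] : ¬ IsPGroup p G := fun h => by
  have := h.isNilpotent
  exact hn ⟨⟨IsSimpleGroup.comm_iff_isSolvable.2 inferInstance⟩⟩

theorem card_ne (p : ℕ) [Fact p.Prime] (j : ℕ) : Nat.card (⊤ : Subgroup G) ≠ p ^ j :=
  fun h => not_pgroup hn p (.of_card (card_top.symm.trans h))

theorem ch_top (p : ℕ) [Fact p.Prime] {k : ℕ} (h : p ^ k ∣ Nat.card G) :
    Ch (k + 1) (⊤ : Subgroup G) := ch_of_dvd' p (card_top (G := G) ▸ h) (card_ne hn p)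

theorem sylow_ne_top {p : ℕ} [Fact p.Prime] (S : Sylow p G) : (S : Subgroup G) ≠ ⊤ := fun e =>
  not_pgroup hn p ((e ▸ S.isPGroup').of_equiv topEquiv)

theorem isCoatom_of {p k : ℕ} [Fact p.Prime] (S : Sylow p G) (h : p ^ k ∣ Nat.card G)
    (hc : ¬ Ch (k + 2) (⊤ : Subgroup G)) : IsCoatom (S : Subgroup G) := by
  refine ⟨sylow_ne_top hn S, fun M hM => by_contra fun h1 => hc ?_⟩
  exact ((ch_of_dvd p (S.pow_dvd_card_of_pow_dvd_card h)).step hM).step (lt_top_iff_ne_top.2 h1)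

omit hn in
theorem norm_lt {V : Subgroup G} (h1 : V ≠ ⊥) (h2 : V ≠ ⊤) : normalizer (V : Set G) < ⊤ :=
  lt_top_iff_ne_top.2 fun e =>
    ((normalizer_eq_top_iff.1 e).eq_bot_or_eq_top).elim h1 h2

end CfsgLib.Small2
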