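import Mathlib
import Cfsg.Agent.Lib.Small2.Len
import Cfsg.Agent.Lib.Classical.SLBasic
import Cfsg.Agent.Lib.Classical.SLCard
import Cfsg.Agent.Lib.U3Idx.Model
import Cfsg.Agent.Lib.Sz.Models
import Cfsg.Agent.Lib.Sz.Sylow

/-! Long chains of subgroups in small groups of Lie type. -/

set_option autoImplicit false

namespace CfsgLib.Small2

open Subgroup CfsgLib.Tech Matrix Matrix.SpecialLinearGroup MulAction Cfsg
open scoped MatrixGroups LinearAlgebra.Projectivization

variable {F : Type*} [Field F] [Fintype F]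

theorem stab_card (n : ℕ) (x : ℙ F (Fin n → F)) : Nat.card (stabilizer PSL(n, F) x) *
    ∑ i ∈ Finset.range n, Fintype.card F ^ i = Nat.card PSL(n, F) := by
  rw [← (stabilizer PSL(n, F) x).card_mul_index, index_stabilizer_of_transitive,
    Projectivization.card_of_finrank F _ (Module.finrank_fin_fun F),
    Nat.card_eq_fintype_card (α := F)]

theorem eight_dvd {q : ℕ} (h : Odd q) : 8 ∣ q ^ 2 - 1 := by
  obtain ⟨k, rfl⟩ := h
  rw [show (2 * k + 1) ^ 2 - 1 = 4 * (k * (k + 1)) by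
    rw [show (2 * k + 1) ^ 2 = 4 * (k * (k + 1)) + 1 by ring]; rfl]
  exact Nat.mul_dvd_mul_left 4 (Nat.even_mul_succ_self k).two_dvd

theorem cop_gcd (k m : ℕ) : (2 ^ k).Coprime (Nat.gcd 3 m) :=
  Nat.Coprime.pow_left _ (Nat.Coprime.coprime_dvd_right (Nat.gcd_dvd_left _ _) (by norm_num))

theorem stab3 (x : ℙ F (Fin 3 → F)) : Nat.gcd 3 (Fintype.card F - 1) *
    Nat.card (stabilizer PSL(3, F) x) =
      Fintype.card F ^ 3 * ((Fintype.card F ^ 2 - 1) * (Fintype.card F - 1)) := by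
  have h1 := stab_card 3 x
  have h2 := Classical.psl_card_mul (ι := Fin 3) (F := F)
  rw [Classical.sl3_card, Fintype.card_fin, ← h1] at h2
  obtain ⟨m, hm⟩ : ∃ m, Fintype.card F = m + 1 := ⟨_, (Nat.sub_add_cancel Fintype.card_pos).symm⟩
  rw [hm] at h2 ⊢
  simp only [Finset.sum_range_succ, Finset.sum_range_zero, Nat.add_sub_cancel] at h2 ⊢
  rw [show (m + 1) ^ 3 - 1 = m * (0 + (m + 1) ^ 0 + (m + 1) ^ 1 + (m + 1) ^ 2) by
    rw [show (m + 1) ^ 3 = m * (0 + (m + 1) ^ 0 + (m + 1) ^ 1 + (m + 1) ^ 2) + 1 by ring]; rfl,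
    ← mul_assoc, ← mul_assoc _ m, ← mul_assoc] at h2
  exact Nat.eq_of_mul_eq_mul_right (by positivity) h2

theorem stab_lt {n : ℕ} (hn : 2 ≤ n) (x : ℙ F (Fin n → F)) : stabilizer PSL(n, F) x < ⊤ := by
  refine lt_top_iff_ne_top.2 fun e => ?_
  have h := stab_card n x
  rw [e, card_top, Nat.mul_eq_left Nat.card_pos.ne'] at h
  obtain ⟨m, rfl⟩ : ∃ m, n = m + 2 := ⟨n - 2, by omega⟩
  rw [Finset.sum_range_succ', Finset.sum_range_succ'] at h
  have := Fintype.card_pos (α := F)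
  simp only [zero_add, pow_one, pow_zero] at h
  omega

/-- The coordinate points of projective space. -/
def pt {n : ℕ} (i : Fin n) : ℙ F (Fin n → F) :=
  .mk F (Pi.single i 1) (Pi.single_ne_zero_iff.2 one_ne_zero)

theorem ch_psl2 (hF : Fintype.card F = 2 ^ 7) : Ch 9 (⊤ : Subgroup PSL(2, F)) := by
  have h1 := stab_card 2 (pt (F := F) 0)
  have h2 := Classical.psl2_card_mul (F := F)
  rw [hF] at h1 h2
  rw [← h1] at h2
  simp only [Finset.sum_range_succ, Finset.sum_range_zero, Nat.reducePow, Nat.reduceAdd,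
    Nat.reduceSub, Nat.reduceGcd, Nat.reduceMul] at h2
  have h3 : Nat.card (stabilizer PSL(2, F) (pt (F := F) (0 : Fin 2))) = 2 ^ 7 * 127 := by omega
  refine (ch_of_dvd' 2 (k := 7) (h3 ▸ dvd_mul_right _ _) fun j e => ?_).step (stab_lt le_rfl _)
  have : 127 ∣ 2 ^ j := e ▸ h3 ▸ dvd_mul_left _ _
  exact absurd ((by norm_num : Nat.Prime 127).dvd_of_dvd_pow this) (by norm_num)

theorem ch_psl3_even {n : ℕ} (hn : 2 ≤ n) (hF : Fintype.card F = 2 ^ n) :
    Ch 8 (⊤ : Subgroup PSL(3, F)) := by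
  have h1 := stab3 (pt (F := F) 0)
  have h4 : 4 ≤ Fintype.card F := hF ▸ Nat.pow_le_pow_right (n := 2) (by norm_num) hn
  refine (ch_of_dvd' 2 (k := 6) ((cop_gcd 6 (Fintype.card F - 1)).dvd_of_dvd_mul_left ?_)
    fun j e => ?_).step (stab_lt (by norm_num) (pt 0))
  · rw [h1, hF, ← pow_mul]; exact (pow_dvd_pow 2 (by omega)).mul_right _
  · have h2 : Fintype.card F ^ 2 - 1 ∣ Nat.gcd 3 (Fintype.card F - 1) * 2 ^ j :=
      e ▸ h1 ▸ (dvd_mul_right _ _).mul_left _
    have h3 : (Fintype.card F ^ 2 - 1).Coprime (2 ^ j) := by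
      refine Nat.Coprime.pow_right _ (Nat.coprime_two_right.2 (Nat.Even.sub_odd (Nat.one_le_pow _ _
        (by omega)) ?_ odd_one))
      rw [hF, ← pow_mul]; exact (even_two.pow_of_ne_zero (by omega))
    have := (Nat.le_of_dvd (by positivity) (h3.dvd_of_dvd_mul_right h2)).trans
      (Nat.gcd_le_left _ (by norm_num))
    have := Nat.pow_le_pow_left h4 2
    omega

theorem tv_smul {i j k : Fin 3} (h : i ≠ j) (hk : j ≠ k) :
    (transvection h (1 : F) : PSL(3, F)) • pt (F := F) k = pt k := by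
  rw [ProjectiveSpecialLinearGroup.smul_proj_mk, pt, Projectivization.smul_mk,
    Projectivization.mk_eq_mk_iff']
  refine ⟨1, (one_smul _ _).trans (Eq.symm ?_)⟩
  simp [Matrix.SpecialLinearGroup.smul_def, -mulVec_single, transvection_coe, add_mulVec,
    single_mulVec, Pi.single_apply, hk]

theorem tv_move {i j : Fin 3} (h : i ≠ j) :
    (transvection h (1 : F) : PSL(3, F)) • pt (F := F) j ≠ pt j := by
  rw [ProjectiveSpecialLinearGroup.smul_proj_mk, pt, Projectivization.smul_mk, Ne,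
    Projectivization.mk_eq_mk_iff', transvection_smul_single_snd]
  rintro ⟨c, hc⟩
  simpa [h] using congrFun hc i

theorem pow_char {p : ℕ} [CharP F p] {v : Fin 3 → F} (hv : v ≠ 0) {A : SL(3, F)}
    (hA : A ∈ lineStab (Submodule.span F {v})) : A ^ p = 1 := by
  refine Subtype.ext <| ext_iff_smul.2 fun w => ?_
  obtain ⟨c, hc⟩ := Submodule.mem_span_singleton.1 (hA w)
  have h : ∀ k : ℕ, A ^ k • w = w + (k : F) • c • v := by
    intro k
    induction k with
    | zero => simp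
    | succ k ih =>
      rw [pow_succ', mul_smul, ih, smul_add, smul_comm A, smul_comm A, lineStab_fix_of_span v hv A hA,
        ← sub_add_cancel (A • w) w, ← hc, Nat.cast_succ, add_smul, one_smul]
      abel
  exact (h p).trans (by simp)

theorem ch_psl3_odd (ho : Odd (Fintype.card F)) : Ch 8 (⊤ : Subgroup PSL(3, F)) := by
  obtain ⟨p, hp⟩ := CharP.exists F
  obtain ⟨n, pp, hF⟩ := FiniteField.card F p
  have := Fact.mk pp
  have p2 : p ≠ 2 := by
    rintro rfl
    exact Nat.not_even_iff_odd.2 ho (hF ▸ even_two.pow_of_ne_zero n.ne_zero)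
  have e0 : (Pi.single 0 1 : Fin 3 → F) ≠ 0 := Pi.single_ne_zero_iff.2 one_ne_zero
  set V := PSL.iwasawaT (pt (F := F) (0 : Fin 3)) with hV
  have mV : ∀ {g}, g ∈ V ↔ ∃ A ∈ lineStab (Submodule.span F {(Pi.single 0 1 : Fin 3 → F)}),
      (A : PSL(3, F)) = g := by
    intro g; rw [hV, pt, PSL.iwasawaT, Projectivization.submodule_mk]; rfl
  have hP : stabilizer PSL(3, F) (pt (F := F) 0) ≤ normalizer (V : Set PSL(3, F)) := fun g hg => by
    have := (Classical.pslIwasawa (ι := Fin 3) (F := F)).is_conj g (pt 0)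
    rw [mem_stabilizer_iff.1 hg, smul_eq_cj] at this
    exact mem_normalizer_iff_cj.2 this.symm
  have pV : IsPGroup p V := isPGroup_iff_mem.2 fun g hg => by
    obtain ⟨A, hA, rfl⟩ := mV.1 hg
    exact ⟨1, by rw [pow_one, ← QuotientGroup.mk_pow, pow_char e0 hA, QuotientGroup.mk_one]⟩
  have c2 : Ch 2 V := by
    refine ⟨V ⊓ stabilizer _ (pt (F := F) (2 : Fin 3)), lt_of_le_of_ne inf_le_left fun e => ?_,
      ⊥, bot_lt_iff_ne_bot.2 fun e => ?_, trivial⟩
    · have : (transvection (show (0 : Fin 3) ≠ 2 by decide) (1 : F) : PSL(3, F)) ∈ V :=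
        mV.2 ⟨_, Classical.sl_transvection_mem_lineStab _ _, rfl⟩
      rw [← e] at this
      exact tv_move _ this.2
    · have : (transvection (show (0 : Fin 3) ≠ 1 by decide) (1 : F) : PSL(3, F)) ∈
          V ⊓ stabilizer _ (pt (F := F) (2 : Fin 3)) :=
        ⟨mV.2 ⟨_, Classical.sl_transvection_mem_lineStab _ _, rfl⟩, tv_smul _ (by decide)⟩
      rw [e, mem_bot] at this
      exact tv_move (F := F) (show (0 : Fin 3) ≠ 1 by decide) (by rw [this, one_smul])
  have h16 : 2 ^ 4 ∣ Nat.card (stabilizer PSL(3, F) (pt (F := F) (0 : Fin 3))) :=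
    (cop_gcd 4 _).dvd_of_dvd_mul_left (stab3 (F := F) _ ▸ Dvd.dvd.mul_left
      (Nat.mul_dvd_mul (eight_dvd ho) (Nat.Odd.sub_odd ho odd_one).two_dvd) _)
  obtain ⟨T, hT, cT⟩ := exists_le_card h16
  have pT : IsPGroup 2 T := .of_card cT
  have c6 := c2.sup (ch_of_dvd 2 cT.symm.dvd) (hT.trans hP)
    (disjoint_iff.1 (IsPGroup.disjoint_of_ne p 2 p2 _ _ pV pT))
  set y : PSL(3, F) := transvection (show (1 : Fin 3) ≠ 2 by decide) (1 : F) with hy
  have y1 : y ∈ normalizer (V : Set PSL(3, F)) := hP (tv_smul _ (by decide))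
  have y2 : IsPGroup p (zpowers y) := isPGroup_zpowers_of_pow (k := 1) (by
    rw [pow_one, ← QuotientGroup.mk_pow, pow_char (Pi.single_ne_zero_iff.2 one_ne_zero)
      (Classical.sl_transvection_mem_lineStab _ _), QuotientGroup.mk_one])
  have y3 : y ∉ V := fun h => by
    obtain ⟨A, hA, e⟩ := mV.1 h
    have e1 : y • pt (F := F) (2 : Fin 3) = A • pt (F := F) (2 : Fin 3) := by rw [← e]; rfl
    rw [hy, ProjectiveSpecialLinearGroup.smul_proj_mk, pt, Projectivization.smul_mk,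
      Projectivization.smul_mk, Projectivization.mk_eq_mk_iff', transvection_smul_single_snd] at e1
    obtain ⟨r, hr⟩ := e1
    obtain ⟨c, hc⟩ := Submodule.mem_span_singleton.1 (hA (Pi.single 2 1))
    rw [← sub_add_cancel (A • Pi.single 2 1) (Pi.single 2 1), ← hc] at hr
    simpa using congrFun hr 1
  have := Classical.psl_isSimpleGroup (ι := Fin 3) (F := F) (by simp)
  refine (c6.step (lt_of_le_of_ne (sup_le le_normalizer (hT.trans hP)) fun e => y3 ?_)).step
    (norm_lt ?_ fun e => y3 (e ▸ mem_top y))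
  · obtain ⟨v, hv, t, ht, e1⟩ := mem_sup_norm (hT.trans hP) (e ▸ y1 : y ∈ V ⊔ T)
    have h1 : IsPGroup p ↥(V ⊔ zpowers y) :=
      pV.to_sup_of_normal_left' y2 (zpowers_le.2 y1)
    have h2 : t ∈ (V ⊔ zpowers y) ⊓ T := ⟨(mul_mem_cancel_left (mem_sup_left hv)).1
      (by rw [e1]; exact mem_sup_right (mem_zpowers y)), ht⟩
    rw [disjoint_iff.1 (IsPGroup.disjoint_of_ne p 2 p2 _ _ h1 pT), mem_bot] at h2
    rwa [← e1, h2, mul_one]
  · obtain ⟨H, h, -⟩ := c2
    exact h.ne_bot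

variable {q : ℕ}

theorem ch_psu (hF : Fintype.card F = q ^ 2) (h4 : 4 ≤ q) (h5 : q ≠ 5) :
    Ch 8 (⊤ : Subgroup (PSU 3 F q)) := by
  have := Fact.mk hF
  obtain ⟨m⟩ := U3Idx.nonempty_hypB (F := F) (q := q)
  obtain ⟨p, hp⟩ := CharP.exists F
  obtain ⟨n, pp, hn⟩ := FiniteField.card F p
  have := Fact.mk pp
  obtain ⟨a, -, ha⟩ := (Nat.dvd_prime_pow pp).1 (hn ▸ hF ▸ dvd_pow_self q two_ne_zero : q ∣ p ^ (n : ℕ))
  let π : SU 3 F q →* PSU 3 F q := QuotientGroup.mk' _
  have hZ := Unitary.card_center_SU (n := 3) hF (by norm_num)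
  have cV : Nat.card (π.comp m.uS).range = q ^ 3 := by
    rw [← Unitary.UT.card_eq (F := F) (q := q)]
    refine (Nat.card_congr (MonoidHom.ofInjective ?_).toEquiv).symm
    refine (injective_iff_map_eq_one _).2 fun u hu => ?_
    have h1 : m.uS u ∈ center _ := (QuotientGroup.eq_one_iff _).1 hu
    have h2 : orderOf u ∣ q + 1 := by
      rw [← orderOf_injective _ m.uS_injective]
      exact (Subgroup.orderOf_dvd_natCard _ h1).trans (hZ ▸ Nat.gcd_dvd_right _ _)
    have h3 : orderOf u ∣ q ^ 3 := Unitary.UT.card_eq (F := F) (q := q) ▸ _root_.orderOf_dvd_natCard u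
    exact orderOf_eq_one_iff.1 (Nat.eq_one_of_dvd_coprimes (by simp) h2 h3)
  obtain ⟨k, hk, cH⟩ : ∃ k, k ∣ 3 ∧ Nat.card (π.comp m.hS).range * k = q ^ 2 - 1 := by
    refine ⟨Nat.card (π.comp m.hS).ker, ?_, ?_⟩
    · have hi : Function.Injective m.hS := fun l k e =>
        (m.uS_hS_inj (u := 1) (v := 1) (by rw [e])).2
      rw [← card_map_of_injective hi]
      refine (card_dvd_of_le ?_).trans (hZ ▸ Nat.gcd_dvd_left _ _)
      rintro _ ⟨l, hl, rfl⟩
      exact (QuotientGroup.eq_one_iff _).1 hl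
    · rw [← index_ker, index_mul_card, Classical.sl_card_units, hF]
  have hN : (π.comp m.hS).range ≤ normalizer ((π.comp m.uS).range : Set (PSU 3 F q)) := by
    rintro _ ⟨l, rfl⟩
    refine mem_normalizer_of_forall ?_
    rintro _ ⟨u, rfl⟩
    exact ⟨Unitary.UT.diag (U3Idx.mu q l) u, by
      simp only [MonoidHom.comp_apply, ← map_mul, m.hS_mul_uS]; simp⟩
  have q1 : 16 ≤ q ^ 2 := Nat.pow_le_pow_left h4 2
  have hd : (π.comp m.uS).range ⊓ (π.comp m.hS).range = ⊥ := by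
    refine inf_eq_bot_of_coprime (Nat.Coprime.coprime_dvd_right (Dvd.intro _ cH) ?_)
    rw [cV]
    refine Nat.Coprime.pow_left _ ((Nat.coprime_pow_left_iff two_pos _ _).1 ?_)
    exact (Nat.coprime_self_sub_right (by omega)).2 (by simp)
  have := Unitary.isSimpleGroup_PSU (n := 3) hF (by norm_num) (by omega)
  have k3 := Nat.le_of_dvd (by norm_num) hk
  have c7 : Ch 7 ((π.comp m.uS).range ⊔ (π.comp m.hS).range) := by
    rcases Nat.even_or_odd q with ho | ho
    · obtain rfl : p = 2 := ((Nat.prime_dvd_prime_iff_eq Nat.prime_two pp).1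
        (Nat.prime_two.dvd_of_dvd_pow (ha ▸ ho.two_dvd))).symm
      have a2 : 2 ≤ a := by
        by_contra h
        have : a < 2 := by omega
        interval_cases a <;> omega
      refine (ch_of_dvd 2 (k := 6) ?_).sup (b := 1) ⟨⊥, bot_lt_iff_ne_bot.2 fun e => ?_, trivial⟩ hN hd
      · rw [cV, ha, ← pow_mul]; exact pow_dvd_pow 2 (by omega)
      · rw [e, card_bot] at cH; omega
    · have a1 : 1 ≤ a := by
        by_contra h
        obtain rfl : a = 0 := by omega
        simp only [pow_zero] at ha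
        omega
      have h8 : 2 ^ 3 ∣ Nat.card (π.comp m.hS).range :=
        (Nat.Coprime.coprime_dvd_right hk (by norm_num)).dvd_of_dvd_mul_right (cH ▸ eight_dvd ho)
      obtain ⟨T, hT, cT⟩ := exists_le_card h8
      refine (ch_of_dvd p (k := 3) ?_).sup (b := 4)
        ((ch_of_dvd 2 cT.symm.dvd).step (lt_of_le_of_ne hT fun e => ?_)) hN hd
      · rw [cV, ha, ← pow_mul]; exact pow_dvd_pow p (by omega)
      · rw [← e, cT] at cH
        have : 49 ≤ q ^ 2 := Nat.pow_le_pow_left (show 7 ≤ q by obtain ⟨r, rfl⟩ := ho; omega) 2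
        omega
  refine c7.step ((sup_le le_normalizer hN).trans_lt (norm_lt (fun e => ?_) fun e => ?_))
  · rw [e, card_bot] at cV
    have : 4 ^ 3 ≤ q ^ 3 := Nat.pow_le_pow_left h4 3
    omega
  · rw [e, top_inf_eq] at hd
    rw [hd, card_bot] at cH; omega

theorem ch_sz {G : Type*} [Group G] (h : Lie.IsoSuzuki G) : Ch 8 (⊤ : Subgroup G) := by
  obtain ⟨F, _, _, m, hm, hF, ⟨e⟩⟩ := h
  refine Ch.equiv (e.trans (Sz.lieSzEquiv hF).symm) ?_
  have h1 := (Sz.tits hF).card_U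
  have h2 := (Sz.tits hF).card_B
  rw [Nat.card_eq_fintype_card (α := F), hF] at h1 h2
  refine ((ch_of_dvd 2 (k := 6) ?_).step (lt_of_le_of_ne (Sz.tits hF).U_le_B fun e => ?_)).step
    (lt_top_iff_ne_top.2 Sz.Tits.B_ne_top)
  · rw [h1, ← pow_mul]; exact pow_dvd_pow 2 (by omega)
  · rw [← e, h1, eq_comm, Nat.mul_eq_left (by positivity)] at h2
    have : 2 ^ 3 ≤ 2 ^ (2 * m + 1) := Nat.pow_le_pow_right (by norm_num) (by omega)
    omega

end CfsgLib.Small2
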